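import Mathlib.AlgebraicGeometry.Morphisms.UniversallyClosed
import Mathlib.AlgebraicGeometry.Morphisms.Separated
import Mathlib.AlgebraicGeometry.Morphisms.QuasiSeparated
import Mathlib.AlgebraicGeometry.Morphisms.Immersion
import Mathlib.AlgebraicGeometry.Morphisms.UnderlyingMap

set_option autoImplicit false
universe u

open CategoryTheory CategoryTheory.Limits AlgebraicGeometry MorphismProperty

namespace Groth.Agent.SepDescent

/-- The square relating the two diagonals. -/
theorem comp_diagonal {X Y S : Scheme.{u}} (f : X ⟶ Y) (q : Y ⟶ S) :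
    f ≫ pullback.diagonal q = pullback.diagonal (f ≫ q) ≫
      pullback.map (f ≫ q) (f ≫ q) q q f f (𝟙 S) (Category.comp_id _) (Category.comp_id _) := by
  apply pullback.hom_ext <;>
    simp only [pullback.diagonal, Category.assoc, pullback.lift_fst, pullback.lift_snd,
      pullback.lift_fst_assoc, pullback.lift_snd_assoc, Category.comp_id, Category.id_comp]

theorem universallyClosed_map {X Y S : Scheme.{u}} (f : X ⟶ Y) (q : Y ⟶ S) [UniversallyClosed f] :
    UniversallyClosed (pullback.map (f ≫ q) (f ≫ q) q q f f (𝟙 S) (Category.comp_id _) (Category.comp_id _)) :=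
  MorphismProperty.pullbackMap (P := @UniversallyClosed) (h₁ := ‹_›) (h₂ := ‹_›) (e₁ := rfl) (e₂ := rfl)

/-- Separatedness descends along universally closed surjections. -/
theorem isSeparated_of_comp {X Y S : Scheme.{u}} (f : X ⟶ Y) (q : Y ⟶ S) [Surjective f] [UniversallyClosed f]
    [IsSeparated (f ≫ q)] : IsSeparated q := by
  constructor
  have := universallyClosed_map f q
  refine IsClosedImmersion.of_isPreimmersion _ ?_
  have huc : UniversallyClosed (f ≫ pullback.diagonal q) := by
    rw [comp_diagonal]; infer_instance
  have h := (f ≫ pullback.diagonal q).isClosedMap.isClosed_range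
  rwa [Scheme.Hom.comp_base, TopCat.coe_comp, Set.range_comp, f.surjective.range_eq, Set.image_univ] at h

/-- Quasi-separatedness descends along universally closed surjections. -/
theorem quasiSeparated_of_comp {X Y S : Scheme.{u}} (f : X ⟶ Y) (q : Y ⟶ S) [Surjective f] [UniversallyClosed f]
    [QuasiSeparated (f ≫ q)] : QuasiSeparated q := by
  constructor
  have := universallyClosed_map f q
  have hqc : QuasiCompact (f ≫ pullback.diagonal q) := by
    rw [comp_diagonal]; infer_instance
  constructor
  intro U hUo hUc
  rw [← Set.image_preimage_eq ((pullback.diagonal q).base ⁻¹' U) f.surjective, ← Set.preimage_comp]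
  refine IsCompact.image ?_ f.continuous
  have := (f ≫ pullback.diagonal q).isSpectralMap.isCompact_preimage_of_isOpen hUo hUc
  rwa [Scheme.Hom.comp_base, TopCat.coe_comp] at this

end Groth.Agent.SepDescent
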